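import Cfsg.Agent.Lib.Helper9.TCData.Fi23CX.Main

set_option autoImplicit false
set_option maxRecDepth 1000000

namespace Cfsg.Agent.Helper9.TCData.Fi23CX
open Cfsg.Agent.Helper9.TC2

theorem m1_0 : allRange 0 1 (fun u => chkM1 tab u) = true := by decide +kernel

theorem m2_0 : allRange 0 1 (fun u => chkFix tab mwords u) = true := by decide +kernel


end Cfsg.Agent.Helper9.TCData.Fi23CX
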