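import Mathlib
import Cfsg.Prelude.Def_Spor_Fi23
import Cfsg.Agent.Lib.Helper9.TC2Cox
import Cfsg.Agent.Lib.Helper9.TC2Aux
import Cfsg.Agent.Lib.Helper9.TC2Chain
import Cfsg.Agent.Lib.Helper9.TCData.Fi23CX.All

set_option autoImplicit false
set_option maxRecDepth 1000000

namespace Cfsg.Agent.Helper9.TCData.Fi23CX

open Cfsg.Agent.Helper9.TC2 Cfsg.Spor Cfsg.Spor.Fi23

/-- The generators. -/
abbrev Gen := Cfsg.Spor.Fi23.Gen

/-- The graph. -/
abbrev edges : List (Gen × ℕ × Gen) := Cfsg.Spor.Fi23.edges

/-- The further element. -/
def xelt : FreeGroup Gen := a * c * g * b * e * j * d * e * h * d * f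

/-- The further relators. -/
abbrev extra : List (FreeGroup Gen) := Cfsg.Spor.Fi23.extra ++ [xelt]

/-- The columns: generators with signs. -/
def cols : List (Gen × Bool) := [(.a, true), (.b, true), (.c, true), (.d, true), (.e, true), (.f, true), (.g, true), (.j, true), (.h, true), (.i, true)]

/-- The nodes of the graph. -/
def nodes : List Gen := [.a, .b, .c, .d, .e, .f, .g, .j, .h, .i]

/-- The generators of the subgroup. -/
def sgens : List (FreeGroup Gen) := []

theorem relWords_eq : relWords = (relList edges extra nodes).map (colWord cols) := by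
  decide +kernel

theorem rot_ok : chkRotSrc relWords rotSrc rotT.leaves = true := by decide +kernel

/-- The certificate. -/
noncomputable def cert : CoxCert edges extra ((∅ : Set (FreeGroup Gen))) where
  cols := cols
  nodes := nodes
  sgens := sgens
  D := tab
  mwords := mwords
  hcols := ⟨by intro x; cases x <;> decide, by decide, by intro x; cases x <;> decide,
    by intro x; cases x <;> decide⟩
  hnodes1 := by decide
  hnodes2 := by decide
  hS := by
    ext s
    simp [sgens]
  hk := rfl
  hinv := by decide
  hinv2 := by decide
  hrot := by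
    intro i
    have h := chkRotSrc_sound rot_ok _ (rotT.getF_mem_leaves i)
    rw [relWords_eq] at h
    exact h
  hsubs := by decide +kernel
  hdead := by decide +kernel
  hn0 := by decide
  hrep0 := by decide +kernel
  hE := hE
  hL := hL
  hF := hF
  hC := hC
  hM1 := hM1
  hmw1 := by decide +kernel
  hmw2 := by decide +kernel
  hM2 := hM2
  hM3 := by decide +kernel

theorem cert_n : cert.D.n = 1 := rfl

end Cfsg.Agent.Helper9.TCData.Fi23CX
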